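import Cfsg.Agent.H202.RC.Frame
import Cfsg.Agent.H359.RC.Crit

/-!
# S3510, row A, box E22: the case `V = W ⊕ W'` with two irreducible planes
-/

set_option autoImplicit false
set_option linter.unusedSectionVars false
open Cfsg

namespace Cfsg.Agent.H991.RC

open MulAction Cfsg.Agent.H106.RC Module Cfsg.Agent.H359.RC Cfsg.Agent.H202.RC

/-! ### duality -/

section dual

variable {F : Type*} [Field F] [Finite F]

theorem exists_psi (F : Type*) [Field F] [Finite F] : ∃ ψ : AddChar F ℂ, ψ ≠ 1 := by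
  obtain ⟨ψ, hψ1⟩ : ∃ ψ : AddChar F ℂ, ψ 1 ≠ 1 := AddChar.exists_apply_ne_zero.mpr one_ne_zero
  exact ⟨ψ, fun h => hψ1 (by rw [h]; rfl)⟩

theorem exists_shift {ψ : AddChar F ℂ} (hψ : ψ ≠ 1) (φ : AddChar F ℂ) : ∃ t : F, ∀ x, φ x = ψ (t * x) := by
  classical
  have := Fintype.ofFinite F
  have hinj : Function.Injective fun t : F => AddChar.mulShift ψ t :=
    AddChar.to_mulShift_inj_of_isPrimitive (AddChar.IsPrimitive.of_ne_one hψ)
  have hcard : Fintype.card F = Fintype.card (AddChar F ℂ) := by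
    have := AddChar.card_eq (α := F)
    rw [← this]
  obtain ⟨t, ht⟩ := ((Fintype.bijective_iff_injective_and_card _).mpr ⟨hinj, hcard⟩).2 φ
  exact ⟨t, fun x => by rw [← ht]; rfl⟩

theorem eq_of_shift {ψ : AddChar F ℂ} (hψ : ψ ≠ 1) {t t' : F} (h : ∀ c, ψ (t * c) = ψ (t' * c)) : t = t' := by
  have := Fintype.ofFinite F
  have hinj : Function.Injective fun t : F => AddChar.mulShift ψ t :=
    AddChar.to_mulShift_inj_of_isPrimitive (AddChar.IsPrimitive.of_ne_one hψ)
  apply hinj
  apply DFunLike.ext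
  intro c
  exact h c

/-- a bimultiplicative, balanced map comes from a linear map -/
theorem duality {A A' : Type*} [AddCommGroup A] [Module F A] [AddCommGroup A'] [Module F A'] [Module.Finite F A']
    {ψ : AddChar F ℂ} (hψ : ψ ≠ 1) (T : A → Dual F A' → ℂ) (h1 : ∀ a a' χ, T (a + a') χ = T a χ * T a' χ)
    (h2 : ∀ a χ χ', T a (χ + χ') = T a χ * T a χ') (h3 : ∀ (c : F) a χ, T (c • a) χ = T a (c • χ))
    (h0 : ∀ a, T a 0 = 1) : ∃ M : A →ₗ[F] A', ∀ a χ, T a χ = ψ (χ (M a)) := by
  have hex : ∀ a χ, ∃ t : F, ∀ c : F, T a (c • χ) = ψ (t * c) := by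
    intro a χ
    let φ : AddChar F ℂ :=
      { toFun := fun c => T a (c • χ)
        map_zero_eq_one' := by simp only [zero_smul, h0]
        map_add_eq_mul' := fun c d => by simp only [add_smul, h2] }
    exact exists_shift hψ φ
  choose B hB using hex
  let B' : A →ₗ[F] Dual F (Dual F A') :=
    { toFun := fun a =>
        { toFun := fun χ => B a χ
          map_add' := fun χ χ' => by
            apply eq_of_shift hψ
            intro c
            rw [← hB, smul_add, h2, hB, hB, add_mul, AddChar.map_add_eq_mul]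
          map_smul' := fun d χ => by
            apply eq_of_shift hψ
            intro c
            rw [← hB, smul_smul, hB, RingHom.id_apply, smul_eq_mul]
            congr 1
            ring }
      map_add' := fun a a' => by
        apply LinearMap.ext
        intro χ
        change B (a + a') χ = B a χ + B a' χ
        apply eq_of_shift hψ
        intro c
        rw [← hB, h1, hB, hB, add_mul, AddChar.map_add_eq_mul]
      map_smul' := fun d a => by
        apply LinearMap.ext
        intro χ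
        change B (d • a) χ = d • B a χ
        apply eq_of_shift hψ
        intro c
        rw [← hB, h3, smul_smul, hB, smul_eq_mul]
        congr 1
        ring }
  refine ⟨((Module.evalEquiv F A').symm : Dual F (Dual F A') →ₗ[F] A') ∘ₗ B', fun a χ => ?_⟩
  have e1 : χ ((((Module.evalEquiv F A').symm : Dual F (Dual F A') →ₗ[F] A') ∘ₗ B') a) = B a χ := by
    have e2 := (Module.evalEquiv F A').apply_symm_apply (B' a)
    have e3 := congrArg (fun f : Dual F (Dual F A') => f χ) e2
    exact e3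
  rw [e1]
  have := hB a χ 1
  rwa [one_smul, mul_one] at this

end dual

/-! ### the rule T1 -/

section t1

variable {G Ω ι : Type*} [Group G] [MulAction G Ω] {x : ι → G} {r : ι → ℕ}

theorem exists_prod [Finite ι] (hp : PF x r) : ∃ g : G, (∀ Q : Subgroup G, (∀ i, x i ∈ Q) → g ∈ Q) ∧
    (∀ k : ℕ, (∀ i, r i ∣ k) → g ^ k = 1) ∧ ∀ j (k : ℕ), ¬ r j ∣ k → ∃ m : ℕ, (g ^ k) ^ m = x j := by
  classical
  have := Fintype.ofFinite ι
  let C : Subgroup G := Subgroup.closure (Set.range x)
  have hC : IsMulCommutative C := Subgroup.isMulCommutative_closure (k := Set.range x) (by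
    rintro _ ⟨i, rfl⟩ _ ⟨j, rfl⟩
    exact hp.comm i j)
  let _ : CommGroup C := { (inferInstance : Group C) with mul_comm := hC.is_comm.comm }
  let y : ι → C := fun i => ⟨x i, Subgroup.subset_closure ⟨i, rfl⟩⟩
  have hy : ∀ i, y i ^ r i = 1 := fun i => Subtype.ext (hp.pow i)
  have hyd : ∀ i (k : ℕ), r i ∣ k → y i ^ k = 1 := by
    rintro i _ ⟨k, rfl⟩
    rw [pow_mul, hy, one_pow]
  refine ⟨((∏ i, y i : C) : G), ?_, ?_, ?_⟩
  · intro Q hQ
    have h1 : C ≤ Q := by
      rw [Subgroup.closure_le]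
      rintro _ ⟨i, rfl⟩
      exact hQ i
    exact h1 (∏ i, y i : C).2
  · intro k hk
    have h1 : (∏ i, y i) ^ k = 1 := by
      rw [← Finset.prod_pow]
      exact Finset.prod_eq_one fun i _ => hyd i k (hk i)
    have h2 := congrArg Subtype.val h1
    exact h2
  · intro j k hjk
    let m : ℕ := ∏ i ∈ Finset.univ.erase j, r i
    have h1 : ∀ i, i ≠ j → r i ∣ m := fun i hi => Finset.dvd_prod_of_mem r (Finset.mem_erase.2 ⟨hi, Finset.mem_univ i⟩)
    have h2 : (∏ i, y i) ^ (k * m) = y j ^ (k * m) := by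
      rw [← Finset.prod_pow, ← Finset.mul_prod_erase Finset.univ _ (Finset.mem_univ j)]
      rw [Finset.prod_eq_one, mul_one]
      intro i hi
      exact hyd i _ (Dvd.dvd.mul_left (h1 i (Finset.ne_of_mem_erase hi)) k)
    have h3 : Nat.Coprime (k * m) (r j) := by
      apply Nat.Coprime.mul_left
      · exact ((hp.prime j).coprime_iff_not_dvd.2 hjk).symm
      · apply Nat.Coprime.prod_left
        intro i hi
        exact (Nat.coprime_primes (hp.prime i) (hp.prime j)).2 fun e => Finset.ne_of_mem_erase hi (hp.inj e)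
    obtain ⟨a, -, ha⟩ := Nat.exists_mul_mod_eq_one_of_coprime h3 (hp.prime j).one_lt
    refine ⟨m * a, ?_⟩
    have h4 : ((∏ i, y i) ^ k) ^ (m * a) = y j := by
      rw [← pow_mul, ← mul_assoc, pow_mul, h2, ← pow_mul, pow_eq_pow_mod _ (hy j), ha, pow_one]
    have h5 := congrArg Subtype.val h4
    exact h5

/-- (T1) a cover contains an element fixing a given occurring character of a normalised subgroup -/
theorem exists_fixC [Finite G] [Finite ι] (hp : PF x r) (hc : Cov Ω x) {Q : Subgroup G}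
    (hQ : ∀ i, ∀ q ∈ Q, x i * q * (x i)⁻¹ ∈ Q) (μ : Q →* ℂˣ) (hμ : Occ Ω Q μ) : ∃ i, FixC Q μ (x i) := by
  obtain ⟨ω, hω⟩ := hμ
  obtain ⟨g, hg1, hg2, hg3⟩ := exists_prod hp
  by_contra hno
  push Not at hno
  have hgN : g ∈ Subgroup.normalizer (Q : Set G) := by
    apply hg1
    intro i
    exact Subgroup.mem_normalizer_fintype (hQ i)
  have hgQ : ∀ q ∈ Q, g * q * g⁻¹ ∈ Q := fun q hq => (Subgroup.mem_normalizer_iff.1 hgN q).1 hq
  obtain ⟨q, hq⟩ := exists_regular hgQ μ ω hω (by
    intro k hk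
    apply hg2
    intro j
    by_contra hjk
    obtain ⟨m, hm⟩ := hg3 j k hjk
    apply hno j
    rw [← hm]
    exact fixC_pow (pow_conj_mem' hgQ k) hk m)
  obtain ⟨j, hj⟩ := hc ((q : G) • ω)
  have hr1 : ¬ r j ∣ 1 := fun h => (hp.prime j).one_lt.ne' (Nat.dvd_one.1 h)
  obtain ⟨m, hm⟩ := hg3 j 1 hr1
  rw [pow_one] at hm
  rw [← hm] at hj
  exact hp.ne j (hm ▸ hq m hj)

end t1

/-! ### linear algebra in planes -/

section plane

variable {F V : Type*} [Field F] [AddCommGroup V] [Module F V]

theorem exists_comb (hd : finrank F V = 2) {v w : V} (h : LinearIndependent F ![v, w]) (u : V) :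
    ∃ α β : F, u = α • v + β • w := by
  have := Module.finite_of_finrank_eq_succ hd
  have h1 := h.span_eq_top_of_card_eq_finrank' (by rw [hd, Fintype.card_fin])
  have h2 : u ∈ Submodule.span F (Set.range ![v, w]) := by rw [h1]; trivial
  rw [Matrix.range_cons, Matrix.range_cons, Matrix.range_empty, Set.union_empty, Set.singleton_union,
    Submodule.mem_span_pair] at h2
  obtain ⟨α, β, h3⟩ := h2
  exact ⟨α, β, h3.symm⟩

end plane

/-! ### the group `Hom(W', W)` -/

section tw

variable {F V : Type*} [Field F] [AddCommGroup V] [Module F V] {W W' : Submodule F V}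

/-- the transvection attached to `w ∈ W` and `χ ∈ (W')*` -/
noncomputable def tw (hc : IsCompl W' W) (w : W) (χ : Dual F W') : SLV F V :=
  tv (χ ∘ₗ W'.projectionOnto W hc) w (by
    rw [LinearMap.comp_apply, Submodule.projectionOnto_apply_right, map_zero])

@[simp] theorem tw_apply (hc : IsCompl W' W) (w : W) (χ : Dual F W') (v : V) :
    (tw hc w χ : V ≃ₗ[F] V) v = v + χ (W'.projectionOnto W hc v) • (w : V) := tv_apply _ _ _ _

theorem tw_add_left (hc : IsCompl W' W) (w w' : W) (χ : Dual F W') : tw hc (w + w') χ = tw hc w χ * tw hc w' χ := by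
  rw [tw, tw, tw, tv_mul_right]
  rfl

theorem tw_add_right (hc : IsCompl W' W) (w : W) (χ χ' : Dual F W') :
    tw hc w (χ + χ') = tw hc w χ * tw hc w χ' := by
  rw [tw, tw, tw, tv_mul_left]
  rfl

theorem tw_smul (hc : IsCompl W' W) (c : F) (w : W) (χ : Dual F W') : tw hc (c • w) χ = tw hc w (c • χ) := by
  apply SLV.ext
  intro v
  rw [tw_apply, tw_apply, Submodule.coe_smul, LinearMap.smul_apply, smul_smul, smul_eq_mul, mul_comm]

theorem tw_zero (hc : IsCompl W' W) (w : W) : tw hc w 0 = 1 := by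
  apply SLV.ext
  intro v
  rw [tw_apply, LinearMap.zero_apply, zero_smul, add_zero, coe_one_apply]

theorem tw_mem (hc : IsCompl W' W) (w : W) (χ : Dual F W') : tw hc w χ ∈ QW W := by
  refine ⟨fun v => ?_, fun u hu => ?_⟩
  · rw [tw_apply, add_sub_cancel_left]
    exact W.smul_mem _ w.2
  · rw [tw_apply, (Submodule.projectionOnto_apply_eq_zero_iff hc).2 hu, map_zero, zero_smul, add_zero]

/-- the elements `tw` generate -/
theorem exists_tw (hc : IsCompl W' W) {ι : Type*} [Fintype ι] (b : Basis ι F W') (P : SLV F V → Prop)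
    (h1 : P 1) (hm : ∀ s t, P s → P t → P (s * t)) (htw : ∀ w χ, P (tw hc w χ)) {s : SLV F V} (hs : s ∈ QW W) :
    P s := by
  classical
  obtain ⟨h, hh, ha, hb, rfl⟩ := exists_uh hs
  have key : ∀ S : Finset ι, ∃ t : SLV F V, P t ∧ ∀ v, (t : V ≃ₗ[F] V) v =
      v + ∑ j ∈ S, b.coord j (W'.projectionOnto W hc v) • h (b j) := by
    intro S
    induction S using Finset.induction_on with
    | empty => exact ⟨1, h1, fun v => by simp⟩
    | insert j S hj ih =>
      obtain ⟨t, ht, ht'⟩ := ih
      refine ⟨tw hc ⟨h (b j), ha _⟩ (b.coord j) * t, hm _ _ (htw _ _) ht, fun v => ?_⟩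
      rw [coe_mul_apply, ht', tw_apply, Finset.sum_insert hj, map_add, map_sum]
      have h2 : ∀ k ∈ S, W'.projectionOnto W hc (b.coord k (W'.projectionOnto W hc v) • h (b k)) = 0 := by
        intro k _
        rw [Submodule.projectionOnto_apply_eq_zero_iff]
        exact W.smul_mem _ (ha _)
      rw [Finset.sum_congr rfl h2, Finset.sum_const_zero, add_zero]
      dsimp only
      abel
  obtain ⟨t, ht, ht'⟩ := key Finset.univ
  have h3 : uh h hh = t := by
    apply SLV.ext
    intro v
    rw [uh_apply, ht']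
    congr 1
    have h4 : h v = h (W'.projectionOnto W hc v) := by
      have h5 : v - W'.projectionOnto W hc v ∈ W := Submodule.sub_projection_mem hc v
      have h6 := hb _ h5
      rw [map_sub, sub_eq_zero] at h6
      exact h6
    rw [h4]
    conv_lhs => rw [← b.sum_repr (W'.projectionOnto W hc v)]
    rw [Submodule.coe_sum, map_sum]
    refine Finset.sum_congr rfl fun j _ => ?_
    rw [Submodule.coe_smul, map_smul, Basis.coord_apply]
  rw [h3]
  exact ht

end tw

/-! ### the box -/

section main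

variable {F V G Ω ι : Type} [Field F] [Finite F] [AddCommGroup V] [Module F V] [Module.Finite F V] [Group G] [Finite G]
  [Finite Ω] [Nonempty Ω] [MulAction G Ω] [Finite ι] {N : Subgroup G} {κ : SLV F V →* G} {x : ι → G} {r : ι → ℕ}
  {a : ι → V ≃ₗ[F] V}

/-- the data: a linear map `M : W → W'` such that every twist of `M` by an element of `SL(V)` trivial on `W`
commutes with some `a i` -/
theorem exists_M (h : LinCov Ω N κ x r a) (W W' : Submodule F V) (hc : IsCompl W' W)
    (hW0 : W ≠ ⊥) (hW0' : W' ≠ ⊥)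
    (A : ∀ _ : ι, W →ₗ[F] W) (hA : ∀ i (w : W), (A i w : V) = a i w)
    (A' : ∀ _ : ι, W' →ₗ[F] W') (hA' : ∀ i (w : W'), (A' i w : V) = a i w) :
    ∃ M : W →ₗ[F] W', M ≠ 0 ∧ ∀ (c : SLV F V) (C : W' →ₗ[F] W'), (∀ w ∈ W, (c : V ≃ₗ[F] V) w = w) →
      (∀ w : W', (C w : V) = (c : V ≃ₗ[F] V) w) → ∃ i, ∀ w : W, C (M (A i w)) = A' i (C (M w)) := by
  classical
  obtain ⟨p, hpF⟩ := CharP.exists F
  have hpp : p.Prime := (CharP.char_is_prime_or_zero F p).resolve_right (CharP.char_ne_zero_of_finite F p)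
  have : Fact p.Prime := ⟨hpp⟩
  obtain ⟨ψ, hψ⟩ := exists_psi F
  have hpr : ∀ v : V, v - W'.projectionOnto W hc v ∈ W := fun v => Submodule.sub_projection_mem hc v
  have hprW : ∀ w ∈ W, W'.projectionOnto W hc w = 0 := fun w hw => (Submodule.projectionOnto_apply_eq_zero_iff hc).2 hw
  have hprW' : ∀ w : W', W'.projectionOnto W hc w = w := fun w => Submodule.projectionOnto_apply_left hc w
  -- compatibility of the projection with maps preserving the decomposition
  have hcomp : ∀ (f : V ≃ₗ[F] V) (C : W' →ₗ[F] W'), (∀ w ∈ W, f w ∈ W) → (∀ w : W', (C w : V) = f w) →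
      ∀ v, W'.projectionOnto W hc (f v) = C (W'.projectionOnto W hc v) := by
    intro f C h1 h2 v
    have h3 : f v = f (v - W'.projectionOnto W hc v) + C (W'.projectionOnto W hc v) := by
      rw [h2, ← map_add, sub_add_cancel]
    rw [h3, map_add, hprW _ (h1 _ (hpr v)), zero_add, hprW']
  have haW : ∀ i, ∀ w ∈ W, a i w ∈ W := fun i w hw => by
    have := (A i ⟨w, hw⟩).2
    rwa [hA] at this
  -- `Q`
  let Q : Subgroup G := (QW W).map κ
  have hQmem : ∀ s ∈ QW W, κ s ∈ Q := fun s hs => Subgroup.mem_map_of_mem κ hs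
  have hQ : IsPGroup p Q := by
    rintro ⟨q, s, hs, rfl⟩
    refine ⟨1, Subtype.ext ?_⟩
    change (κ s) ^ p ^ 1 = 1
    rw [pow_one, ← map_pow, QW_pow hs, map_one]
  have hxQ : ∀ i, ∀ q ∈ Q, x i * q * (x i)⁻¹ ∈ Q := by
    rintro i _ ⟨s, hs, rfl⟩
    rw [h.lift]
    apply hQmem
    have hsurj : ∀ w ∈ W, ∃ u ∈ W, a i u = w := by
      have hinj : Function.Injective (A i) := by
        intro u v huv
        apply Subtype.ext
        apply (a i).injective
        rw [← hA, ← hA, huv]
      intro w hw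
      obtain ⟨u, hu⟩ := (LinearMap.injective_iff_surjective.1 hinj) ⟨w, hw⟩
      exact ⟨u, u.2, by rw [← hA, hu]⟩
    refine ⟨fun v => ?_, fun w hw => ?_⟩
    · obtain ⟨u, rfl⟩ := (a i).surjective v
      rw [cj_apply, ← map_sub]
      exact haW i _ (hs.1 u)
    · obtain ⟨u, hu, rfl⟩ := hsurj w hw
      rw [cj_apply, hs.2 u hu]
  -- the character
  obtain ⟨w0, hw0, hw0'⟩ := Submodule.exists_mem_ne_zero_of_ne_bot hW0
  obtain ⟨u0, hu0, hu0'⟩ := Submodule.exists_mem_ne_zero_of_ne_bot hW0'
  obtain ⟨χ0, hχ0⟩ : ∃ χ : Dual F W', χ ⟨u0, hu0⟩ ≠ 0 := by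
    by_contra hno
    push Not at hno
    apply hu0'
    have := (Module.forall_dual_apply_eq_zero_iff F (⟨u0, hu0⟩ : W')).1 hno
    exact congrArg Subtype.val this
  have hmove : ∃ ω : Ω, ∃ q ∈ Q, q • ω ≠ ω := by
    have h1 : κ (tw hc ⟨w0, hw0⟩ χ0) ≠ 1 := by
      intro h2
      obtain ⟨c, hcc⟩ := (h.fr.ker _).1 h2
      have h3 := hcc w0
      rw [tw_apply, hprW _ hw0, map_zero, zero_smul, add_zero] at h3
      have h4 : (1 - c) • w0 = 0 := by rw [sub_smul, one_smul, ← h3, sub_self]
      have h5 : c = 1 := by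
        rcases smul_eq_zero.1 h4 with h5 | h5
        · exact (sub_eq_zero.1 h5).symm
        · exact absurd h5 hw0'
      have h6 := hcc u0
      rw [h5, one_smul, tw_apply, hprW' ⟨u0, hu0⟩] at h6
      have h7 : χ0 ⟨u0, hu0⟩ • w0 = 0 := by
        have := add_eq_left.1 h6
        exact this
      rcases smul_eq_zero.1 h7 with h8 | h8
      · exact hχ0 h8
      · exact hw0' h8
    obtain ⟨ω, hω⟩ := h.fr.env.exists_move h1
    exact ⟨ω, _, hQmem _ (tw_mem hc _ _), hω⟩
  obtain ⟨ω, hω⟩ := hmove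
  obtain ⟨μ, hμ1, hμp, hocc⟩ := exists_occ hQ hω
  let q : W → Dual F W' → Q := fun w χ => ⟨κ (tw hc w χ), hQmem _ (tw_mem hc w χ)⟩
  obtain ⟨M, hM⟩ := duality (A := W) (A' := W') hψ (fun w χ => ((μ (q w χ) : ℂˣ) : ℂ))
    (by
      intro w w' χ
      rw [← Units.val_mul, ← map_mul]
      congr 2
      apply Subtype.ext
      change κ _ = κ _ * κ _
      rw [tw_add_left, map_mul])
    (by
      intro w χ χ'
      rw [← Units.val_mul, ← map_mul]
      congr 2
      apply Subtype.ext
      change κ _ = κ _ * κ _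
      rw [tw_add_right, map_mul])
    (by
      intro c w χ
      congr 2
      apply Subtype.ext
      change κ _ = κ _
      rw [tw_smul])
    (by
      intro w
      have h1 : q w 0 = 1 := Subtype.ext (by
        change κ _ = 1
        rw [tw_zero, map_one])
      rw [h1, map_one, Units.val_one])
  refine ⟨M, ?_, ?_⟩
  · rintro rfl
    apply hμ1
    apply MonoidHom.ext
    rintro ⟨_, s, hs, rfl⟩
    rw [MonoidHom.one_apply]
    have key := exists_tw hc (Module.finBasis F W') (fun s => ∃ hs : κ s ∈ Q, μ ⟨κ s, hs⟩ = 1) (by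
        have h0 : κ 1 ∈ Q := by rw [map_one]; exact Q.one_mem
        refine ⟨h0, ?_⟩
        have : (⟨κ 1, h0⟩ : Q) = 1 := Subtype.ext (map_one κ)
        rw [this, map_one])
      (by
        rintro s t ⟨h1, h1'⟩ ⟨h2, h2'⟩
        have h0 : κ (s * t) ∈ Q := by rw [map_mul]; exact Q.mul_mem h1 h2
        refine ⟨h0, ?_⟩
        have : (⟨κ (s * t), h0⟩ : Q) = ⟨κ s, h1⟩ * ⟨κ t, h2⟩ := Subtype.ext (map_mul κ s t)
        rw [this, map_mul, h1', h2', one_mul]) (by
        intro w χ
        refine ⟨hQmem _ (tw_mem hc w χ), ?_⟩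
        apply Units.ext
        have := hM w χ
        rw [LinearMap.zero_apply, map_zero, AddChar.map_zero_eq_one] at this
        exact this) hs
    exact key.2
  · intro c C hcW hC
    have hnorm : ∀ q ∈ Q, (κ c)⁻¹ * q * κ c ∈ Q := by
      rintro _ ⟨s, hs, rfl⟩
      rw [← map_inv, ← map_mul, ← map_mul]
      apply hQmem
      have hcW' : ∀ w ∈ W, ((c⁻¹ : SLV F V) : V ≃ₗ[F] V) w = w := by
        intro w hw
        conv_lhs => rw [← hcW w hw]
        rw [coe_inv_apply]
      refine ⟨fun v => ?_, fun w hw => ?_⟩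
      · rw [coe_mul_apply, coe_mul_apply]
        have h1 : ((c⁻¹ : SLV F V) : V ≃ₗ[F] V) ((s : V ≃ₗ[F] V) ((c : V ≃ₗ[F] V) v)) - v =
            ((c⁻¹ : SLV F V) : V ≃ₗ[F] V) ((s : V ≃ₗ[F] V) ((c : V ≃ₗ[F] V) v) - (c : V ≃ₗ[F] V) v) := by
          rw [map_sub, coe_inv_apply]
        rw [h1, hcW' _ (hs.1 _)]
        exact hs.1 _
      · rw [coe_mul_apply, coe_mul_apply, hcW w hw, hs.2 w hw, hcW' w hw]
    obtain ⟨i, hi⟩ := exists_fixC h.pf h.cov hxQ (conjC Q μ (κ c) hnorm) (occ_conjC ⟨ω, hocc⟩ (κ c) hnorm)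
    refine ⟨i, fun w => ?_⟩
    have hconj : ∀ w χ, conjC Q μ (κ c) hnorm (q w χ) = μ (q w (χ ∘ₗ C)) := by
      intro w χ
      change μ _ = μ _
      congr 1
      apply Subtype.ext
      change (κ c)⁻¹ * κ (tw hc w χ) * κ c = κ (tw hc w (χ ∘ₗ C))
      rw [mul_assoc, inv_mul_eq_iff_eq_mul, ← map_mul, ← map_mul]
      congr 1
      apply SLV.ext
      intro v
      rw [coe_mul_apply, coe_mul_apply, tw_apply, tw_apply, map_add, map_smul, hcW w w.2, LinearMap.comp_apply,
        hcomp (c : V ≃ₗ[F] V) C (fun w hw => by rw [hcW w hw]; exact hw) hC v]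
    have hfix : ∀ χ : Dual F W', μ (q (A i w) (χ ∘ₗ C)) = μ (q w ((χ ∘ₗ A' i) ∘ₗ C)) := by
      intro χ
      rw [← hconj, ← hconj]
      apply hi
      change κ (tw hc (A i w) χ) = x i * κ (tw hc w (χ ∘ₗ A' i)) * (x i)⁻¹
      rw [h.lift]
      congr 1
      symm
      apply cj_eq
      intro v
      rw [tw_apply, tw_apply, map_add, map_smul, hA, LinearMap.comp_apply, hcomp (a i) (A' i) (haW i) (hA' i) v]
    have h1 : ∀ χ : Dual F W', χ (C (M (A i w)) - A' i (C (M w))) = 0 := by
      intro χ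
      rw [map_sub, sub_eq_zero]
      apply eq_of_shift hψ
      intro t
      have h2 := congrArg (Units.val) (hfix (t • χ))
      rw [hM, hM] at h2
      simp only [LinearMap.comp_apply, LinearMap.smul_apply, smul_eq_mul] at h2
      rw [mul_comm _ t, mul_comm _ t]
      exact h2
    have h3 := (Module.forall_dual_apply_eq_zero_iff F _).1 h1
    exact sub_eq_zero.1 h3

/-- **Box E22** of row A of S3510 -/
theorem no_22 (h : LinCov Ω N κ x r a) (W W' : Submodule F V) (hc : IsCompl W W')
    (hd : finrank F W = 2) (hd' : finrank F W' = 2)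
    (hW : ∀ i, ∀ w ∈ W, a i w ∈ W) (hW' : ∀ i, ∀ w ∈ W', a i w ∈ W')
    (hirr : ∀ i, ∀ w ∈ W, w ≠ 0 → ¬ ∃ c : F, a i w = c • w)
    (hirr' : ∀ i, ∀ w ∈ W', w ≠ 0 → ¬ ∃ c : F, a i w = c • w) (hcard : Nat.card ι < Nat.card F) : False := by
  classical
  let A : ι → W →ₗ[F] W := fun i => (a i : V →ₗ[F] V).restrict (hW i)
  let A' : ι → W' →ₗ[F] W' := fun i => (a i : V →ₗ[F] V).restrict (hW' i)
  have hW0 : W ≠ ⊥ := by
    rintro rfl
    rw [finrank_bot] at hd
    omega
  have hW0' : W' ≠ ⊥ := by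
    rintro rfl
    rw [finrank_bot] at hd'
    omega
  obtain ⟨M, hM0, hM⟩ := exists_M h W W' hc.symm hW0 hW0' A (fun _ _ => rfl) A' (fun _ _ => rfl)
  by_cases hinj : Function.Injective M
  · -- rank 2
    let bW : Basis (Fin 2) F W := Module.finBasisOfFinrankEq F W hd
    let Me : W ≃ₗ[F] W' := LinearEquiv.ofInjectiveOfFinrankEq M hinj (by rw [hd, hd'])
    have hMe : ∀ w, Me w = M w := fun w => rfl
    let b' : Basis (Fin 2) F W' := bW.map Me
    have hb' : ∀ j, b' j = M (bW j) := fun j => Basis.map_apply _ _ _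
    have hex : ∀ t : F, ∃ i, ∀ w : W, M (A i w) + (t * b'.coord 1 (M (A i w))) • b' 0 =
        A' i (M w + (t * b'.coord 1 (M w)) • b' 0) := by
      intro t
      have h0 : ((t • b'.coord 1) ∘ₗ W'.projectionOnto W hc.symm) (b' 0 : V) = 0 := by
        rw [LinearMap.comp_apply, Submodule.projectionOnto_apply_left, LinearMap.smul_apply, Basis.coord_apply,
          Basis.repr_self, Finsupp.single_eq_of_ne (by decide), smul_zero]
      exact hM (tv ((t • b'.coord 1) ∘ₗ W'.projectionOnto W hc.symm) (b' 0 : V) h0)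
        (LinearMap.id + LinearMap.smulRight (t • b'.coord 1) (b' 0))
        (fun w hw => by
          rw [tv_apply, LinearMap.comp_apply, (Submodule.projectionOnto_apply_eq_zero_iff hc.symm).2 hw, map_zero,
            zero_smul, add_zero])
        (fun w => by
          rw [tv_apply, LinearMap.comp_apply, Submodule.projectionOnto_apply_left]
          rfl)
    choose f hf using hex
    have hfi : Function.Injective f := by
      intro t t' htt
      by_contra hne
      have h1 := hf t (bW 0)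
      have h2 := hf t' (bW 0)
      rw [← htt] at h2
      have h3 : b'.coord 1 (M (bW 0)) = 0 := by
        rw [← hb', Basis.coord_apply, Basis.repr_self, Finsupp.single_eq_of_ne (by decide)]
      rw [h3, mul_zero, zero_smul, add_zero] at h1 h2
      rw [← h2] at h1
      have h4 := add_left_cancel h1
      have h5 : ((t - t') * b'.coord 1 (M (A (f t) (bW 0)))) • b' 0 = 0 := by
        rw [sub_mul, sub_smul, h4, sub_self]
      have h6 : b'.coord 1 (M (A (f t) (bW 0))) = 0 := by
        rcases smul_eq_zero.1 h5 with h6 | h6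
        · rcases mul_eq_zero.1 h6 with h7 | h7
          · exact absurd (sub_eq_zero.1 h7) hne
          · exact h7
        · exact absurd h6 (b'.ne_zero 0)
      have h7 : b'.coord 1 (M (A (f t) (bW 0))) = bW.coord 1 (A (f t) (bW 0)) := by
        rw [← hMe]
        simp [b', Basis.coord_apply]
      rw [h7] at h6
      apply hirr (f t) (bW 0) (bW 0).2 (fun h => bW.ne_zero 0 (Subtype.ext h))
      refine ⟨bW.coord 0 (A (f t) (bW 0)), ?_⟩
      have h8 := bW.sum_repr (A (f t) (bW 0))
      rw [Fin.sum_univ_two] at h8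
      rw [Basis.coord_apply] at h6
      rw [h6, zero_smul, add_zero] at h8
      have h9 := congrArg Subtype.val h8
      exact h9.symm
    exact absurd (Nat.card_le_card_of_injective f hfi) (not_le.2 hcard)
  · -- rank 1
    obtain ⟨i, hi⟩ := hM 1 LinearMap.id (fun _ _ => rfl) (fun _ => rfl)
    simp only [LinearMap.id_apply] at hi
    obtain ⟨w0, hw0, hMw0⟩ : ∃ w0 : W, w0 ≠ 0 ∧ M w0 = 0 := by
      by_contra hno
      push Not at hno
      apply hinj
      rw [injective_iff_map_eq_zero]
      intro w hw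
      by_contra hw'
      exact hno w hw' hw
    obtain ⟨w1, hw1⟩ : ∃ w1 : W, M w1 ≠ 0 := by
      by_contra hno
      push Not at hno
      exact hM0 (LinearMap.ext hno)
    have hli : LinearIndependent F ![w0, w1] := by
      rw [LinearIndependent.pair_iff]
      intro s t hst
      have h1 := congrArg M hst
      rw [map_add, map_smul, map_smul, hMw0, smul_zero, zero_add, map_zero] at h1
      have h2 : t = 0 := (smul_eq_zero.1 h1).resolve_right hw1
      rw [h2, zero_smul, add_zero] at hst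
      exact ⟨(smul_eq_zero.1 hst).resolve_right hw0, h2⟩
    obtain ⟨α, β, hαβ⟩ := exists_comb hd hli (A i w1)
    have h1 := hi w1
    rw [hαβ, map_add, map_smul, map_smul, hMw0, smul_zero, zero_add] at h1
    apply hirr' i (M w1) (M w1).2 (fun h => hw1 (Subtype.ext h))
    exact ⟨β, (congrArg Subtype.val h1).symm⟩

end main

end Cfsg.Agent.H991.RC
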