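import Cfsg.Agent.H991.RC.NumTwo
import Cfsg.Agent.H527.RC.Stmts
import Cfsg.Agent.H308.ClsNum
import Cfsg.Agent.H822.Cls.Plug
import Cfsg.Agent.H822.Cls.RelIx
import Cfsg.Agent.H158.Cls7
import Cfsg.Agent.H668.Dim.Mod
import Cfsg.Agent.Lib.FieldAutCard
import Cfsg.Agent.S0205

/-!
# S4191, PLIN2: `PLin 2 1 1` (helper991, proof by helper675)

`X` solvable, faithful and irreducible on `V ≠ 0`, `2 V = 0`: `ν₂(X) + 1 ≤ ν₂(V)` (`nu_irr`).
-/

set_option autoImplicit false
set_option linter.unusedSectionVars false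

namespace Cfsg.Agent.H991.RC

open Cfsg.Agent.H527.RC Cfsg.Agent.H822.Cls Cfsg.Agent.H668.Dim
open scoped Pointwise commutatorElement

universe u

/-- exponent of two in the order -/
noncomputable abbrev nu (X : Type*) : ℕ := (Nat.card X).factorization 2

theorem fac_le {a b : ℕ} (h : a ∣ b) (hb : b ≠ 0) : a.factorization 2 ≤ b.factorization 2 :=
  (Nat.factorization_le_iff_dvd (by rintro rfl; exact hb (zero_dvd_iff.1 h)) hb).2 h 2

theorem fac_odd {a : ℕ} (h : ¬ 2 ∣ a) : a.factorization 2 = 0 := Nat.factorization_eq_zero_of_not_dvd h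

/-! ### primitive groups -/

section Prim

variable {L U F : Type u} [Group L] [Finite L] [AddCommGroup U] [Finite U] [Nontrivial U]
  [DistribMulAction L U] [Field F] [Finite F] [Module F U] (D : Prim L U F)

theorem card_field (h2 : ∀ u : U, 2 • u = 0) (F : Type u) [Field F] [Finite F] [Module F U] :
    ∃ s : ℕ, 1 ≤ s ∧ Nat.card F = 2 ^ s := by
  have : Fintype F := Fintype.ofFinite F
  obtain ⟨p, hpc, n, hp, hF⟩ := FiniteField.card' F
  have hrp : p = 2 := by
    by_contra hne
    obtain ⟨w, hw⟩ := exists_ne (0 : U)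
    have h1 : p • w = 0 := by
      rw [← Nat.cast_smul_eq_nsmul F, CharP.cast_eq_zero, zero_smul]
    have h3 : addOrderOf w ∣ 1 := by
      have h3 : Nat.Coprime p 2 := (Nat.coprime_primes hp Nat.prime_two).2 hne
      rw [← h3.gcd_eq_one]
      exact Nat.dvd_gcd (addOrderOf_dvd_of_nsmul_eq_zero h1) (addOrderOf_dvd_of_nsmul_eq_zero (h2 w))
    exact hw (AddMonoid.addOrderOf_eq_one_iff.1 (Nat.dvd_one.1 h3))
  refine ⟨n, n.pos, ?_⟩
  rw [Nat.card_eq_fintype_card, hF, hrp]

/-- `|C(A) : S|` divides the product of the orders of the automorphism groups -/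
theorem relIndex_dvd {Q : Finset ℕ} {m : ℕ → ℕ} (hD : D.Num Q m) :
    D.S.relIndex (Subgroup.centralizer (D.A : Set L)) ∣ ∏ q : Q, Nat.card (MulAut (XQ D (q : ℕ))) := by
  set C := Subgroup.centralizer (D.A : Set L) with hC
  let Φ : L →* (∀ q : Q, MulAut (XQ D (q : ℕ))) := MonoidHom.pi fun q => rho D (q : ℕ)
  have hker : Φ.ker ⊓ C ≤ D.S := by
    rintro x ⟨hx, hxC⟩
    refine mem_of_triv D hD hxC fun q hq => (rho_eq_one_iff D x).1 ?_
    exact congrFun (MonoidHom.mem_ker.1 hx) ⟨q, hq⟩
  have h1 : D.S.relIndex C ∣ (Φ.ker ⊓ C).relIndex C := Subgroup.relIndex_dvd_of_le_left C hker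
  rw [Subgroup.inf_relIndex_right, Subgroup.relIndex_ker] at h1
  refine h1.trans ((Subgroup.card_subgroup_dvd_card _).trans ?_)
  rw [Nat.card_pi]

/-- **the primitive case** -/
theorem nu_prim {Q : Finset ℕ} {m : ℕ → ℕ} (hD : D.Num Q m) (h2 : ∀ u : U, 2 • u = 0) : nu L + 1 ≤ nu U := by
  classical
  obtain ⟨s, hs, hF⟩ := card_field h2 F
  have : Fintype F := Fintype.ofFinite F
  have : Module.Finite F U := Module.Finite.of_finite
  have hU : Nat.card U = Nat.card F ^ Module.finrank F U := Module.natCard_eq_pow_finrank (K := F) (V := U)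
  set d := Module.finrank F U with hd
  have hnuU : nu U = s * d := by
    show (Nat.card U).factorization 2 = _
    rw [hU, hF, ← pow_mul, Nat.Prime.factorization_pow Nat.prime_two, Finsupp.single_eq_same]
  have hodd : ¬ 2 ∣ Nat.card F - 1 := by
    rw [hF]
    intro h
    have h1 : 2 ∣ 2 ^ s := dvd_pow_self 2 (by omega)
    have h3 : 1 ≤ 2 ^ s := Nat.one_le_pow _ _ (by norm_num)
    omega
  have hQ2 : ∀ q ∈ Q, q ≠ 2 := by
    rintro q hq rfl
    exact hodd (hD.dvd 2 hq)
  set C := Subgroup.centralizer (D.A : Set L) with hC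
  have hSC : D.S ≤ C := D.S_le
  -- `|L : C|`
  have hCi : C.index ∣ s := by
    have h1 : Nat.card (F ≃+* F) = s := by
      have : Fact (Nat.Prime 2) := ⟨Nat.prime_two⟩
      refine Cfsg.Agent.Lib.FieldAutCard.card_ringAut (p := 2) hs ?_
      rw [← Nat.card_eq_fintype_card, hF]
    rw [hC, ← D.σ_ker, Subgroup.index_ker, ← h1]
    exact Subgroup.card_subgroup_dvd_card _
  -- `|C : S|`
  have hCS : (D.S.relIndex C).factorization 2 ≤ 2 * (∏ q ∈ Q, q ^ m q - 1) := by
    have h0 : ∀ q : Q, Nat.card (MulAut (XQ D (q : ℕ))) ≠ 0 := fun q => Nat.card_pos.ne'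
    refine (fac_le (relIndex_dvd D hD) (Finset.prod_ne_zero_iff.2 fun q _ => h0 q)).trans ?_
    rw [Nat.factorization_prod fun q _ => h0 q, Finset.sum_apply']
    have h1 : ∀ q : Q, (Nat.card (MulAut (XQ D (q : ℕ)))).factorization 2 ≤ 2 * ((q : ℕ) ^ m q - 1) := fun q =>
      nu_mulAut (hD.prime q q.2) (hQ2 q q.2) (hD.one_le q q.2) (cl_pow D q) (card_XQ D hD q.2)
    calc ∑ q : Q, (Nat.card (MulAut (XQ D (q : ℕ)))).factorization 2 ≤ ∑ q : Q, 2 * ((q : ℕ) ^ m q - 1) :=
          Finset.sum_le_sum fun q _ => h1 q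
      _ = 2 * ∑ q ∈ Q, (q ^ m q - 1) := by
        rw [← Finset.mul_sum, Finset.sum_coe_sort Q fun q => q ^ m q - 1]
      _ ≤ 2 * (∏ q ∈ Q, q ^ m q - 1) := Nat.mul_le_mul_left _
        (sum_sub_le Q (fun q => q ^ m q) fun q hq => Nat.one_le_pow _ _ (hD.prime q hq).pos)
  -- `S` has odd order
  have hS : (Nat.card D.S).factorization 2 = 0 := by
    apply fac_odd
    have h1 := D.A.relIndex_mul_relIndex D.S
    have h3 : Nat.card D.S = Nat.card D.A * D.A.relIndex D.S := by
      have h4 := Subgroup.relIndex_mul_relIndex ⊥ D.A D.S bot_le D.A_le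
      rw [Subgroup.relIndex_bot_left, Subgroup.relIndex_bot_left] at h4
      exact h4.symm
    rw [h3, Nat.prime_two.dvd_mul, not_or]
    constructor
    · intro h
      have h4 : Nat.card D.A ∣ Nat.card Fˣ := Subgroup.card_dvd_of_injective D.ι D.ι_inj
      rw [Nat.card_units] at h4
      exact hodd (h.trans h4)
    · rw [hD.relIndex]
      intro h
      have h4 := Nat.prime_two.dvd_of_dvd_pow h
      obtain ⟨q, hq, h5⟩ := (Prime.dvd_finsetProd_iff Nat.prime_two.prime _).1 h4
      exact hQ2 q hq ((Nat.prime_dvd_prime_iff_eq Nat.prime_two (hD.prime q hq)).1 (Nat.prime_two.dvd_of_dvd_pow h5)).symm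
  have hr0 : D.S.relIndex C ≠ 0 := Subgroup.index_ne_zero_of_finite
  have hL : nu L ≤ s.factorization 2 + 2 * (∏ q ∈ Q, q ^ m q - 1) := by
    show (Nat.card L).factorization 2 ≤ _
    rw [← D.S.card_mul_index, ← Subgroup.relIndex_mul_index hSC,
      Nat.factorization_mul Nat.card_pos.ne' (Nat.mul_ne_zero hr0 Subgroup.index_ne_zero_of_finite),
      Nat.factorization_mul hr0 Subgroup.index_ne_zero_of_finite, Finsupp.add_apply,
      Finsupp.add_apply, hS, zero_add, add_comm]
    exact Nat.add_le_add (fac_le hCi (by omega)) hCS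
  have hd1 : 1 ≤ d := Module.finrank_pos
  have he := hD.le_finrank
  have he1 : 1 ≤ ∏ q ∈ Q, q ^ m q := Nat.one_le_iff_ne_zero.2
    (Finset.prod_ne_zero_iff.2 fun q hq => pow_ne_zero _ (hD.prime q hq).ne_zero)
  rw [hnuU]
  have hs1 := nu_lt hs
  have he2 : s = 1 → ∏ q ∈ Q, q ^ m q = 1 := by
    rintro rfl
    apply Finset.prod_eq_one
    intro q hq
    exfalso
    have h1 := hD.dvd q hq
    rw [hF] at h1
    have h3 := (hD.prime q hq).two_le
    have h4 := Nat.le_of_dvd (by norm_num) h1
    omega
  generalize ∏ q ∈ Q, q ^ m q = e at *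
  rcases eq_or_lt_of_le hs with h1 | h1
  · -- `F` has two elements
    have h3 := he2 h1.symm
    rw [h3, ← h1] at hL
    rw [← h1] at hs1 ⊢
    omega
  · obtain ⟨a, ha⟩ : ∃ a, s = a + 2 := ⟨s - 2, by omega⟩
    obtain ⟨b, hb⟩ : ∃ b, e = b + 1 := ⟨e - 1, by omega⟩
    subst ha hb
    have h3 : (a + 2) * (b + 1) ≤ (a + 2) * d := Nat.mul_le_mul_left _ he
    have h4 : (a + 2) * (b + 1) = a * b + a + 2 * b + 2 := by ring
    have h5 := Nat.zero_le (a * b)
    omega

end Prim

/-! ### the range of an action -/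

theorem irr_range {L U : Type u} [Group L] [AddCommGroup U] [DistribMulAction L U] (h : Irr L U) : Irr (rng L U) U := by
  intro W hW
  exact h W fun g w hw => hW (pr L U g) w hw

theorem faithful_range {L U : Type u} [Group L] [AddCommGroup U] [DistribMulAction L U] (g : rng L U)
    (h : ∀ u : U, g • u = u) : g = 1 := by
  apply Subtype.ext
  ext u
  exact h u

/-! ### imprimitive groups -/

theorem nu_factorial {n : ℕ} (hn : n ≠ 0) : (Nat.factorial n).factorization 2 < n := by
  by_contra h
  have h1 : 2 ^ n ∣ Nat.factorial n := (pow_dvd_pow 2 (not_lt.1 h)).trans (Nat.ordProj_dvd _ _)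
  exact (emultiplicity_lt_iff_not_dvd.1 (Nat.emultiplicity_two_factorial_lt hn)) h1

section Imp

variable {L U : Type u} [Group L] [Finite L] [AddCommGroup U] [Finite U] [DistribMulAction L U]
  {X : Subgroup L} [Fintype (L ⧸ X)] (S : H158.Cls7.Sys L U (L ⧸ X))

theorem pi_out (i : L ⧸ X) (v : S.V) : S.π i ((i.out : L) • (v : U)) = (i.out : L) • (v : U) := by
  have h1 := S.eqv i.out ((1 : L) : L ⧸ X) v
  rw [(S.mem_V_iff v).1 v.2] at h1
  have h2 : (i.out : L) • ((1 : L) : L ⧸ X) = i := by
    show ((i.out * 1 : L) : L ⧸ X) = i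
    rw [mul_one]
    exact QuotientGroup.out_eq' i
  rw [h2] at h1
  exact h1.symm

/-- `|V| ^ n` divides `|U|` -/
theorem card_V_dvd : Nat.card S.V ^ Nat.card (L ⧸ X) ∣ Nat.card U := by
  classical
  let θ : (L ⧸ X → S.V) →+ U :=
    { toFun := fun v => ∑ i, (i.out : L) • ((v i : S.V) : U)
      map_zero' := by simp
      map_add' := by
        intro v w
        simp only [Pi.add_apply, AddSubgroup.coe_add, smul_add, Finset.sum_add_distrib] }
  have hθ : Function.Injective θ := by
    rw [injective_iff_map_eq_zero]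
    intro v hv
    funext j
    have h1 : S.π j (θ v) = (j.out : L) • ((v j : S.V) : U) := by
      show S.π j (∑ i, (i.out : L) • ((v i : S.V) : U)) = _
      rw [map_sum, Finset.sum_eq_single j]
      · exact pi_out S j (v j)
      · intro i _ hij
        rw [← pi_out S i (v i)]
        exact S.orth j i _ hij.symm
      · intro h
        exact absurd (Finset.mem_univ j) h
    rw [hv, map_zero] at h1
    apply Subtype.ext
    have h2 : (j.out : L)⁻¹ • ((j.out : L) • ((v j : S.V) : U)) = 0 := by rw [← h1, smul_zero]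
    rw [inv_smul_smul] at h2
    exact h2
  have h1 := AddSubgroup.card_dvd_of_injective θ hθ
  rwa [Nat.card_fun] at h1

/-- the kernel on the blocks -/
theorem card_core_dvd (S : H158.Cls7.Sys L U (L ⧸ X)) (hf : ∀ g : L, (∀ u : U, g • u = u) → g = 1) :
    Nat.card X.normalCore ∣ Nat.card (letI := S.act; rng X S.V) ^ Nat.card (L ⧸ X) := by
  let _ := S.act
  have hmem : ∀ (x : X.normalCore) (i : L ⧸ X), (i.out : L)⁻¹ * (x : L) * i.out ∈ X := by
    intro x i
    have h1 := (inferInstance : X.normalCore.Normal).conj_mem x x.2 (i.out)⁻¹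
    rw [inv_inv] at h1
    exact X.normalCore_le h1
  let Ψ : X.normalCore →* (L ⧸ X → rng X S.V) :=
    { toFun := fun x i => pr X S.V ⟨_, hmem x i⟩
      map_one' := by
        funext i
        show pr X S.V ⟨_, hmem 1 i⟩ = 1
        rw [← map_one (pr X S.V)]
        congr 1
        apply Subtype.ext
        show (i.out : L)⁻¹ * 1 * i.out = 1
        group
      map_mul' := by
        intro x y
        funext i
        show pr X S.V ⟨_, hmem (x * y) i⟩ = pr X S.V ⟨_, hmem x i⟩ * pr X S.V ⟨_, hmem y i⟩
        rw [← map_mul]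
        congr 1
        apply Subtype.ext
        show (i.out : L)⁻¹ * (x * y) * i.out = (i.out : L)⁻¹ * x * i.out * ((i.out : L)⁻¹ * y * i.out)
        group }
  have hΨ : Function.Injective Ψ := by
    rw [injective_iff_map_eq_one]
    intro x hx
    apply Subtype.ext
    apply hf
    intro u
    have h1 : ∀ i, (x : L) • S.π i u = S.π i u := by
      intro i
      have h2 : pr X S.V ⟨_, hmem x i⟩ = 1 := congrFun hx i
      have h3 : pr X S.V ⟨_, hmem x i⟩ • (⟨(i.out)⁻¹ • S.π i u, S.out_inv_smul_mem i u⟩ : S.V) =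
          ⟨(i.out)⁻¹ • S.π i u, S.out_inv_smul_mem i u⟩ := by rw [h2, one_smul]
      have h4 : ((i.out : L)⁻¹ * (x : L) * i.out) • ((i.out : L)⁻¹ • S.π i u) = (i.out : L)⁻¹ • S.π i u :=
        congrArg Subtype.val h3
      rw [mul_smul, smul_inv_smul, mul_smul] at h4
      have h5 := congrArg (fun z => (i.out : L) • z) h4
      simp only [smul_inv_smul] at h5
      exact h5
    rw [← S.sum u, Finset.smul_sum]
    exact Finset.sum_congr rfl fun i _ => h1 i
  have h1 := Subgroup.card_dvd_of_injective Ψ hΨ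
  rwa [Nat.card_fun] at h1

end Imp

/-- **solvable irreducible linear groups in characteristic two** -/
theorem nu_irr (N : ℕ) : ∀ (L U : Type u) [Group L] [Finite L] [Group.IsSolvable L] [AddCommGroup U] [Finite U]
    [Nontrivial U] [DistribMulAction L U], Nat.card U < N → (∀ u : U, 2 • u = 0) →
    (∀ g : L, (∀ u : U, g • u = u) → g = 1) → Irr L U → nu L + 1 ≤ nu U := by
  classical
  induction N with
  | zero => intro L U _ _ _ _ _ _ _ h; omega
  | succ N ih =>
    intro L U _ _ _ _ _ _ _ hN h2 hf hirr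
    by_cases hI : Imprim L U
    · obtain ⟨X, hX, hS⟩ := H158.Cls7.exists_sys hirr hI
      let _ : Fintype (L ⧸ X) := Fintype.ofFinite _
      obtain ⟨S⟩ := hS inferInstance
      let _ := S.act
      have hnt : Nontrivial S.V := by
        obtain ⟨u, hu⟩ := S.ne_zero ((1 : L) : L ⧸ X)
        exact ⟨⟨⟨_, ⟨u, rfl⟩⟩, 0, fun h => hu (congrArg Subtype.val h)⟩⟩
      have hn : 2 ≤ Nat.card (L ⧸ X) := by
        have h1 : X.index ≠ 1 := fun h => hX (Subgroup.index_eq_one.1 h)
        have h3 : X.index ≠ 0 := Subgroup.index_ne_zero_of_finite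
        show 2 ≤ X.index
        omega
      have hV2 : 2 ≤ Nat.card S.V := Finite.one_lt_card
      have hdvd := card_V_dvd S
      have hlt : Nat.card S.V < N := by
        have h1 : Nat.card S.V ^ 2 ≤ Nat.card S.V ^ Nat.card (L ⧸ X) := Nat.pow_le_pow_right (by omega) hn
        have h3 := Nat.le_of_dvd Nat.card_pos hdvd
        nlinarith
      have hsol : Group.IsSolvable (rng X S.V) := Group.isSolvable_of_surjective (f := pr X S.V) pr_surjective
      have hV := ih (rng X S.V) S.V hlt (fun v => Subtype.ext (h2 v)) faithful_range (irr_range (S.irr hirr))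
      set n := Nat.card (L ⧸ X) with hn'
      have h1 : nu X.normalCore ≤ n * nu (rng X S.V) := by
        have h3 := fac_le (card_core_dvd S hf) (pow_ne_zero _ Nat.card_pos.ne')
        rwa [Nat.factorization_pow, Finsupp.smul_apply, smul_eq_mul] at h3
      have h3 : n * nu S.V ≤ nu U := by
        have h3 := fac_le hdvd Nat.card_pos.ne'
        rwa [Nat.factorization_pow, Finsupp.smul_apply, smul_eq_mul] at h3
      have h4 : X.normalCore.index.factorization 2 < n := by
        refine lt_of_le_of_lt (fac_le ?_ (Nat.factorial_ne_zero n)) (nu_factorial (by omega))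
        rw [Subgroup.normalCore_eq_ker, Subgroup.index_ker]
        refine (Subgroup.card_subgroup_dvd_card _).trans ?_
        rw [Nat.card_perm]
      have h5 : nu L = nu X.normalCore + X.normalCore.index.factorization 2 := by
        show (Nat.card L).factorization 2 = _
        rw [← X.normalCore.card_mul_index, Nat.factorization_mul Nat.card_pos.ne' Subgroup.index_ne_zero_of_finite,
          Finsupp.add_apply]
      have h6 : n * (nu (rng X S.V) + 1) ≤ n * nu S.V := Nat.mul_le_mul_left _ hV
      rw [mul_add, mul_one] at h6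
      omega
    · obtain ⟨F, _, _, _, ⟨D⟩⟩ := existsPrim L U 2 Nat.prime_two h2 hf hirr hI
      obtain ⟨Q, m, hD⟩ := H308.ClsNum.exists_num L U F D
      exact nu_prim D hD h2

/-! ### reducible modules -/

section Red

variable {L U : Type u} [Group L] [AddCommGroup U] [DistribMulAction L U]

/-- the action on the quotient -/
@[reducible] def qact (W : AddSubgroup U) (hW : ∀ g : L, ∀ w ∈ W, g • w ∈ W) : DistribMulAction L (U ⧸ W) where
  smul g := QuotientAddGroup.map W W (DistribSMul.toAddMonoidHom U g) (fun w hw => hW g w hw)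
  one_smul x := by
    induction x using QuotientAddGroup.induction_on with
    | H u =>
      show (((1 : L) • u : U) : U ⧸ W) = _
      rw [one_smul]
  mul_smul a b x := by
    induction x using QuotientAddGroup.induction_on with
    | H u =>
      show (((a * b) • u : U) : U ⧸ W) = ((a • b • u : U) : U ⧸ W)
      rw [mul_smul]
  smul_zero g := map_zero (QuotientAddGroup.map W W (DistribSMul.toAddMonoidHom U g) (fun w hw => hW g w hw))
  smul_add g := map_add (QuotientAddGroup.map W W (DistribSMul.toAddMonoidHom U g) (fun w hw => hW g w hw))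

/-- the action on a submodule -/
@[reducible] def sact (W : AddSubgroup U) (hW : ∀ g : L, ∀ w ∈ W, g • w ∈ W) : DistribMulAction L W where
  smul g w := ⟨g • (w : U), hW g w w.2⟩
  one_smul w := Subtype.ext (one_smul L (w : U))
  mul_smul a b w := Subtype.ext (mul_smul a b (w : U))
  smul_zero a := Subtype.ext (smul_zero a)
  smul_add a v w := Subtype.ext (smul_add a (v : U) (w : U))

theorem nu_inf [Finite L] (K M : Subgroup L) [K.Normal] : (K ⊓ M).index.factorization 2 ≤
    K.index.factorization 2 + M.index.factorization 2 := by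
  have h1 : (K ⊓ M).index = K.relIndex M * M.index := by
    rw [← Subgroup.inf_relIndex_right, Subgroup.relIndex_mul_index inf_le_right]
  have h2 : K.relIndex M ≠ 0 := Subgroup.index_ne_zero_of_finite
  rw [h1, Nat.factorization_mul h2 Subgroup.index_ne_zero_of_finite, Finsupp.add_apply]
  exact Nat.add_le_add_right (fac_le (Subgroup.relIndex_dvd_index_of_normal K M) Subgroup.index_ne_zero_of_finite) _

theorem nu_ker (L : Type u) [Group L] [Finite L] [Group.IsSolvable L] (N : ℕ) :
    ∀ (U : Type u) [AddCommGroup U] [Finite U] [DistribMulAction L U], Nat.card U < N → (∀ u : U, 2 • u = 0) →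
    ∃ K : Subgroup L, K.Normal ∧ (∀ k ∈ K, Odd (orderOf k) → ∀ u : U, k • u = u) ∧
      K.index.factorization 2 ≤ nu U := by
  induction N with
  | zero => intro U _ _ _ h; omega
  | succ N ih =>
    intro U _ _ _ hN h2
    rcases subsingleton_or_nontrivial U with hU | hU
    · refine ⟨⊤, inferInstance, fun k _ _ u => Subsingleton.elim _ _, ?_⟩
      rw [Subgroup.index_top, Nat.factorization_one]
      exact Nat.zero_le _
    · -- a minimal submodule
      obtain ⟨W, ⟨hW0, hW⟩, hmin⟩ := (Set.toFinite {W : AddSubgroup U | W ≠ ⊥ ∧ ∀ g : L, ∀ w ∈ W, g • w ∈ W}).exists_minimal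
        ⟨⊤, top_ne_bot, fun _ _ _ => AddSubgroup.mem_top _⟩
      let _ := sact W hW
      have hnt : Nontrivial W := (AddSubgroup.nontrivial_iff_ne_bot W).2 hW0
      have hirr : Irr L W := by
        intro Y hY
        by_cases hY0 : Y = ⊥
        · exact Or.inl hY0
        · right
          have h3 : W ≤ Y.map W.subtype := by
            refine hmin ⟨fun h => hY0 ?_, ?_⟩ (AddSubgroup.map_subtype_le Y)
            · exact (AddSubgroup.map_eq_bot_iff_of_injective Y W.subtype_injective).1 h
            · rintro g _ ⟨y, hy, rfl⟩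
              exact ⟨g • y, hY g y hy, rfl⟩
          rw [eq_top_iff]
          intro w _
          obtain ⟨y, hy, h4⟩ := h3 w.2
          rwa [← Subtype.ext h4]
      have hsol : Group.IsSolvable (rng L W) := Group.isSolvable_of_surjective (f := pr L W) pr_surjective
      have h3 := nu_irr (Nat.card W + 1) (rng L W) W (Nat.lt_succ_self _) (fun w => Subtype.ext (h2 w)) faithful_range
        (irr_range hirr)
      -- the quotient
      have hcard : Nat.card U = Nat.card (U ⧸ W) * Nat.card W := AddSubgroup.card_eq_card_quotient_mul_card_addSubgroup W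
      have hW2 : 2 ≤ Nat.card W := Finite.one_lt_card
      have hQ1 : 1 ≤ Nat.card (U ⧸ W) := Nat.card_pos
      let _ := qact W hW
      obtain ⟨K, hKn, hK, hi⟩ := ih (U ⧸ W) (by nlinarith) (fun x => by
        induction x using QuotientAddGroup.induction_on with
        | H u =>
          show ((2 • u : U) : U ⧸ W) = _
          rw [h2]
          rfl)
      refine ⟨(pr L W).ker ⊓ K, inferInstance, ?_, ?_⟩
      · rintro k ⟨hk1, hk2⟩ ho u
        have h4 : ∀ w : W, k • (w : U) = w := by
          intro w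
          have h5 : pr L W k • w = w := by rw [MonoidHom.mem_ker.1 hk1, one_smul]
          exact congrArg Subtype.val h5
        have h5 : ((k • u : U) : U ⧸ W) = (u : U ⧸ W) := hK k hk2 ho (u : U ⧸ W)
        have h6 : -u + k • u ∈ W := QuotientAddGroup.eq.1 h5.symm
        set w := -u + k • u with hw
        have h7 : k • u = u + w := by rw [hw]; abel
        have h8 : ∀ j : ℕ, (k ^ j) • u = u + j • w := by
          intro j
          induction j with
          | zero => rw [pow_zero, one_smul, zero_smul, add_zero]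
          | succ j ihj =>
            rw [pow_succ', mul_smul, ihj, smul_add, h7, smul_comm k j w, h4 ⟨w, h6⟩, add_smul, one_smul]
            abel
        have h9 := h8 (orderOf k)
        rw [pow_orderOf_eq_one, one_smul] at h9
        have h10 : orderOf k • w = 0 := by
          have := add_left_cancel (a := u) (b := 0) (c := orderOf k • w) (by rw [add_zero]; exact h9)
          exact this.symm
        obtain ⟨j, hj⟩ := ho
        rw [hj, add_smul, mul_comm, mul_smul, h2, smul_zero, zero_add, one_smul] at h10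
        rw [h7, h10, add_zero]
      · have h4 := nu_inf (pr L W).ker K
        have h5 : (pr L W).ker.index = Nat.card (rng L W) := by
          rw [Subgroup.index_ker, MonoidHom.range_eq_top.2 pr_surjective, Subgroup.card_top]
        rw [h5] at h4
        have h6 : nu U = nu (U ⧸ W) + nu W := by
          show (Nat.card U).factorization 2 = _
          rw [hcard, Nat.factorization_mul Nat.card_pos.ne' Nat.card_pos.ne', Finsupp.add_apply]
        have h7 : (Nat.card (rng L W)).factorization 2 + 1 ≤ nu W := h3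
        omega

end Red

/-- **PLIN2** -/
theorem plin_two : PLin.{u} 2 1 1 := by
  intro X V _ _ _ _ _ R hR hfR h2 hf
  have : Fact (Nat.Prime 2) := ⟨Nat.prime_two⟩
  have hRn := hR.normal
  have hodd : Odd (Nat.card R) := Nat.not_even_iff_odd.1 fun h => hR.cop (even_iff_two_dvd.1 h)
  have hsR : Group.IsSolvable R := S0205.result hodd
  have hsQ : Group.IsSolvable (X ⧸ R) := by
    have h1 : IsPGroup 2 (X ⧸ R) := by
      intro x
      induction x using QuotientGroup.induction_on with
      | H x =>
        obtain ⟨k, hk⟩ := hR.isP x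
        exact ⟨k, (QuotientGroup.eq_one_iff (x ^ 2 ^ k)).2 hk⟩
    have := h1.isNilpotent
    infer_instance
  have hs : Group.IsSolvable X := (Group.isSolvable_iff_subgroup_quotient R).2 ⟨hsR, hsQ⟩
  obtain ⟨K, hKn, hK, hi⟩ := nu_ker X (Nat.card V + 1) V (Nat.lt_succ_self _) h2
  have h1 : ∀ k ∈ K, Odd (orderOf k) → k = 1 := fun k hk ho => hf k (hK k hk ho)
  have h3 : ∀ k ∈ K, k ∈ R → k = 1 := by
    intro k hk hkR
    apply h1 k hk
    exact hodd.of_dvd_nat (Subgroup.orderOf_dvd_natCard R hkR)
  have hK1 : K = ⊥ := by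
    rw [eq_bot_iff]
    intro k hk
    rw [Subgroup.mem_bot]
    apply hfR k
    · refine ⟨(orderOf k).factorization 2, ?_⟩
      apply h1 _ (K.pow_mem hk _)
      rw [orderOf_pow_of_dvd (by positivity) (Nat.ordProj_dvd _ _)]
      exact Nat.not_even_iff_odd.1 fun h => Nat.not_dvd_ordCompl Nat.prime_two (orderOf_pos k).ne' (even_iff_two_dvd.1 h)
    · intro x hx
      have h4 : k * x * k⁻¹ * x⁻¹ = 1 := by
        apply h3
        · have h5 := hKn.conj_mem k⁻¹ (K.inv_mem hk) x
          have h6 : k * x * k⁻¹ * x⁻¹ = k * (x * k⁻¹ * x⁻¹) := by group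
          rw [h6]
          exact K.mul_mem hk h5
        · exact R.mul_mem (hRn.conj_mem x hx k) (R.inv_mem hx)
      have h5 := mul_inv_eq_one.1 h4
      exact mul_inv_eq_iff_eq_mul.1 h5
  rw [hK1, Subgroup.index_bot] at hi
  rw [one_mul, one_mul]
  exact hi

end Cfsg.Agent.H991.RC
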